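/-
Helper18: the "separable algebraic closure" of a field `k` inside a commutative `k`-algebra `A`
without nontrivial idempotents is a subfield (Stacks 0BUG-ish / 04PZ prerequisites).
-/
import Mathlib

set_option autoImplicit false

namespace Groth.Agent.Lib.Helper18.ConnComp

open Polynomial

universe u v

/-- `A` has no nontrivial idempotents. -/
def NoIdem (A : Type v) [CommRing A] : Prop := ∀ e : A, e * e = e → e = 0 ∨ e = 1

section
variable (k : Type u) [Field k] {A : Type v} [CommRing A] [Algebra k A]

/-- `a` is a root of a separable polynomial over `k`. -/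
def IsSepRoot (a : A) : Prop := ∃ p : k[X], p.Separable ∧ aeval a p = 0

variable {k}

lemma IsSepRoot.isIntegral {a : A} (ha : IsSepRoot k a) : IsIntegral k a := by
  obtain ⟨p, hp, hpa⟩ := ha
  exact IsAlgebraic.isIntegral ⟨p, hp.ne_zero, hpa⟩

lemma IsSepRoot.separable_minpoly {a : A} (ha : IsSepRoot k a) : (minpoly k a).Separable := by
  obtain ⟨p, hp, hpa⟩ := ha
  exact hp.of_dvd (minpoly.dvd k a hpa)

lemma isSepRoot_iff {a : A} : IsSepRoot k a ↔ IsIntegral k a ∧ (minpoly k a).Separable :=
  ⟨fun h => ⟨h.isIntegral, h.separable_minpoly⟩, fun h => ⟨minpoly k a, h.2, minpoly.aeval k a⟩⟩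

lemma IsSepRoot.irreducible_minpoly [Nontrivial A] (hA : NoIdem A) {a : A} (ha : IsSepRoot k a) :
    Irreducible (minpoly k a) := by
  have hsep := ha.separable_minpoly
  have hint := ha.isIntegral
  have hm0 : minpoly k a ≠ 0 := minpoly.ne_zero hint
  rw [irreducible_iff]
  refine ⟨minpoly.not_isUnit k a, ?_⟩
  intro g h hgh
  have hg0 : g ≠ 0 := by rintro rfl; simp [hgh] at hm0
  have hh0 : h ≠ 0 := by rintro rfl; simp [hgh] at hm0
  rw [hgh] at hsep
  obtain ⟨u, v, huv⟩ := hsep.isCoprime
  have hma : aeval a (g * h) = 0 := by rw [← hgh]; exact minpoly.aeval k a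
  have hsum : aeval a (u * g) + aeval a (v * h) = 1 := by
    rw [← map_add, huv, map_one]
  have hprod : aeval a (u * g) * aeval a (v * h) = 0 := by
    rw [← map_mul, show u * g * (v * h) = u * v * (g * h) by ring, map_mul, hma, mul_zero]
  have hidem : aeval a (u * g) * aeval a (u * g) = aeval a (u * g) := by
    have : aeval a (v * h) = 1 - aeval a (u * g) := by rw [← hsum]; ring
    rw [this, mul_sub, mul_one, sub_eq_zero] at hprod
    exact hprod.symm
  rcases hA _ hidem with h0 | h1
  · -- `(v h)(a) = 1`, so `g(a) = 0`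
    right
    have h1 : aeval a (v * h) = 1 := by rw [h0, zero_add] at hsum; exact hsum
    have hga : aeval a g = 0 := by
      have : aeval a g = aeval a g * aeval a (v * h) := by rw [h1, mul_one]
      rw [this, ← map_mul, show g * (v * h) = v * (g * h) by ring, map_mul, hma, mul_zero]
    have hdvd : g * h ∣ g * 1 := by
      rw [mul_one, ← hgh]; exact minpoly.dvd k a hga
    exact isUnit_of_dvd_one ((mul_dvd_mul_iff_left hg0).mp hdvd)
  · left
    have h0 : aeval a (v * h) = 0 := by rw [h1] at hsum; simpa using hsum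
    have hha : aeval a h = 0 := by
      have : aeval a h = aeval a h * aeval a (u * g) := by rw [h1, mul_one]
      rw [this, ← map_mul, show h * (u * g) = u * (g * h) by ring, map_mul, hma, mul_zero]
    have hdvd : g * h ∣ 1 * h := by
      rw [one_mul, ← hgh]; exact minpoly.dvd k a hha
    exact isUnit_of_dvd_one ((mul_dvd_mul_iff_right hh0).mp hdvd)

/-- The finite separable field `k[a] ≅ k[X]/(minpoly)` attached to a separable root `a` in an
algebra without nontrivial idempotents. -/
lemma IsSepRoot.exists_field [Nontrivial A] (hA : NoIdem A) {a : A} (ha : IsSepRoot k a) :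
    ∃ (M : Type u) (_ : Field M) (_ : Algebra k M) (_ : FiniteDimensional k M)
      (_ : Algebra.IsSeparable k M) (ψ : M →ₐ[k] A), ∃ x, ψ x = a := by
  have hirr := ha.irreducible_minpoly hA
  have hsep := ha.separable_minpoly
  have hint := ha.isIntegral
  have hmonic : (minpoly k a).Monic := minpoly.monic hint
  haveI : Fact (Irreducible (minpoly k a)) := ⟨hirr⟩
  haveI : FiniteDimensional k (AdjoinRoot (minpoly k a)) := hmonic.finite_adjoinRoot
  have hrootsep : IsSeparable k (AdjoinRoot.root (minpoly k a)) := by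
    unfold IsSeparable
    rw [AdjoinRoot.minpoly_root hmonic.ne_zero, hmonic.leadingCoeff, inv_one, map_one, mul_one]
    exact hsep
  haveI : Algebra.IsSeparable k (AdjoinRoot (minpoly k a)) := by
    have htop : IntermediateField.adjoin k {AdjoinRoot.root (minpoly k a)} = ⊤ := by
      rw [← IntermediateField.toSubalgebra_injective.eq_iff, IntermediateField.top_toSubalgebra,
        eq_top_iff, ← AdjoinRoot.adjoinRoot_eq_top]
      exact IntermediateField.algebra_adjoin_le_adjoin k _
    have h1 : Algebra.IsSeparable k (IntermediateField.adjoin k {AdjoinRoot.root (minpoly k a)}) :=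
      (IntermediateField.isSeparable_adjoin_simple_iff_isSeparable k _).mpr hrootsep
    rw [htop] at h1
    exact AlgEquiv.Algebra.isSeparable (IntermediateField.topEquiv (F := k)
      (E := AdjoinRoot (minpoly k a)))
  refine ⟨AdjoinRoot (minpoly k a), inferInstance, inferInstance, inferInstance, inferInstance,
    AdjoinRoot.liftAlgHom (minpoly k a) (Algebra.ofId k A) a (by
      have := minpoly.aeval k a
      rwa [aeval_def] at this), ⟨AdjoinRoot.root _, ?_⟩⟩
  simp

/-- Elements in the image of a separable field extension are separable roots. -/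
lemma isSepRoot_of_mem_range {M : Type*} [Field M] [Algebra k M] [Algebra.IsSeparable k M]
    (ψ : M →ₐ[k] A) (x : M) : IsSepRoot k (ψ x) :=
  ⟨minpoly k x, Algebra.IsSeparable.isSeparable k x, by
    rw [Polynomial.aeval_algHom_apply, minpoly.aeval, map_zero]⟩

/-- Two separable roots lie in the image of a common finite separable field extension. -/
lemma IsSepRoot.exists_field_pair [Nontrivial A] (hA : NoIdem A) {a b : A}
    (ha : IsSepRoot k a) (hb : IsSepRoot k b) :
    ∃ (M : Type u) (_ : Field M) (_ : Algebra k M) (_ : FiniteDimensional k M)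
      (_ : Algebra.IsSeparable k M) (ψ : M →ₐ[k] A), (∃ x, ψ x = a) ∧ (∃ y, ψ y = b) := by
  obtain ⟨M₁, _, _, _, _, ψ₁, x, hx⟩ := ha.exists_field hA
  letI : Algebra M₁ A := ψ₁.toRingHom.toAlgebra
  haveI : IsScalarTower k M₁ A := IsScalarTower.of_algebraMap_eq (fun c => (ψ₁.commutes c).symm)
  have hb' : IsSepRoot M₁ b := by
    obtain ⟨p, hp, hpb⟩ := hb
    refine ⟨p.map (algebraMap k M₁), hp.map, ?_⟩
    rw [aeval_map_algebraMap]; exact hpb
  obtain ⟨M₂, _, _, _, _, ψ₂, y, hy⟩ := hb'.exists_field hA
  letI : Algebra k M₂ := ((algebraMap M₁ M₂).comp (algebraMap k M₁)).toAlgebra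
  haveI : IsScalarTower k M₁ M₂ := IsScalarTower.of_algebraMap_eq (fun c => rfl)
  haveI : FiniteDimensional k M₂ := FiniteDimensional.trans k M₁ M₂
  haveI : Algebra.IsSeparable k M₂ := Algebra.IsSeparable.trans k M₁ M₂
  refine ⟨M₂, inferInstance, inferInstance, inferInstance, inferInstance,
    ψ₂.restrictScalars k, ⟨algebraMap M₁ M₂ x, ?_⟩, ⟨y, hy⟩⟩
  rw [AlgHom.restrictScalars_apply]
  change ψ₂ (algebraMap M₁ M₂ x) = a
  rw [ψ₂.commutes]
  exact hx

variable (k A) in
/-- The subalgebra of separable roots in an algebra without nontrivial idempotents. -/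
def sepSub [Nontrivial A] (hA : NoIdem A) : Subalgebra k A where
  carrier := {a | IsSepRoot k a}
  mul_mem' := by
    intro a b ha hb
    obtain ⟨M, _, _, _, _, ψ, ⟨x, rfl⟩, ⟨y, rfl⟩⟩ := IsSepRoot.exists_field_pair hA ha hb
    change IsSepRoot k _
    rw [← map_mul]; exact isSepRoot_of_mem_range ψ _
  add_mem' := by
    intro a b ha hb
    obtain ⟨M, _, _, _, _, ψ, ⟨x, rfl⟩, ⟨y, rfl⟩⟩ := IsSepRoot.exists_field_pair hA ha hb
    change IsSepRoot k _
    rw [← map_add]; exact isSepRoot_of_mem_range ψ _
  algebraMap_mem' := by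
    intro c
    exact ⟨X - C c, separable_X_sub_C, by simp⟩

lemma mem_sepSub [Nontrivial A] (hA : NoIdem A) {a : A} : a ∈ sepSub k A hA ↔ IsSepRoot k a :=
  Iff.rfl

lemma isField_sepSub [Nontrivial A] (hA : NoIdem A) : IsField (sepSub k A hA) where
  exists_pair_ne := ⟨0, 1, zero_ne_one⟩
  mul_comm := mul_comm
  mul_inv_cancel := by
    rintro ⟨a, ha⟩ ha0
    obtain ⟨M, _, _, _, _, ψ, ⟨x, rfl⟩⟩ := IsSepRoot.exists_field hA ha
    have hx0 : x ≠ 0 := by
      rintro rfl
      exact ha0 (by ext; simp)
    refine ⟨⟨ψ x⁻¹, isSepRoot_of_mem_range ψ _⟩, ?_⟩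
    ext
    simp only [MulMemClass.mk_mul_mk, OneMemClass.coe_one]
    rw [← map_mul, mul_inv_cancel₀ hx0, map_one]

/-- Transitivity: a separable root over a separable field extension `L/k` (mapping to `A`)
is a separable root over `k`. -/
lemma IsSepRoot.of_tower [Nontrivial A] (hA : NoIdem A) (L : Type*) [Field L] [Algebra k L]
    [Algebra L A] [IsScalarTower k L A] [Algebra.IsSeparable k L] {a : A} (ha : IsSepRoot L a) :
    IsSepRoot k a := by
  obtain ⟨M, _, _, _, _, ψ, x, rfl⟩ := ha.exists_field hA
  letI : Algebra k M := ((algebraMap L M).comp (algebraMap k L)).toAlgebra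
  haveI : IsScalarTower k L M := IsScalarTower.of_algebraMap_eq (fun c => rfl)
  haveI : Algebra.IsSeparable k M := Algebra.IsSeparable.trans k L M
  exact isSepRoot_of_mem_range (ψ.restrictScalars k) x

/-- Main algebraic output: in a `k`-algebra `A` without nontrivial idempotents there is a
separable algebraic field extension `L/k` with a `k`-algebra map `L → A` whose image is
"separably closed" in `A`. -/
theorem exists_sepClosed_subfield [Nontrivial A] (hA : NoIdem A) :
    ∃ (L : Type v) (_ : Field L) (_ : Algebra k L) (_ : Algebra.IsSeparable k L)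
      (ι : L →ₐ[k] A), ∀ (a : A) (q : L[X]), q.Separable →
        q.eval₂ (ι : L →+* A) a = 0 → ∃ z, ι z = a := by
  letI : Field (sepSub k A hA) := (isField_sepSub hA).toField
  haveI : Algebra.IsSeparable k (sepSub k A hA) := by
    refine ⟨fun z => ?_⟩
    obtain ⟨p, hp, hpz⟩ := z.2
    refine hp.of_dvd (minpoly.dvd k z ?_)
    apply Subtype.val_injective
    have := Polynomial.aeval_algHom_apply (sepSub k A hA).val z p
    simp only [Subalgebra.coe_val] at this
    rw [← this, hpz]; rfl
  refine ⟨sepSub k A hA, inferInstance, inferInstance, inferInstance, (sepSub k A hA).val, ?_⟩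
  intro a q hq hqa
  have : IsSepRoot (sepSub k A hA) a := ⟨q, hq, by rw [aeval_def]; exact hqa⟩
  exact ⟨⟨a, this.of_tower hA _⟩, rfl⟩

end

end Groth.Agent.Lib.Helper18.ConnComp
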