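/-
Helper18: global functions of a connected scheme have no nontrivial idempotents.
-/
import Mathlib
import Groth.Agent.Lib.Helper18.ConnComp.SepSub

set_option autoImplicit false

namespace Groth.Agent.Lib.Helper18.ConnComp

open AlgebraicGeometry CategoryTheory TopologicalSpace

universe u

lemma isUnit_of_basicOpen_eq_top (X : Scheme.{u}) (s : Γ(X, ⊤)) (h : X.basicOpen s = ⊤) :
    IsUnit s := by
  apply X.toRingedSpace.isUnit_of_isUnit_germ ⊤ s
  intro x hx
  have : x ∈ X.basicOpen s := by rw [h]; trivial
  exact (X.mem_basicOpen_top s x).mp this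

/-- A (pre)connected scheme has no nontrivial idempotent global functions. -/
lemma noIdem_Γ (X : Scheme.{u}) [PreconnectedSpace X] : NoIdem Γ(X, ⊤) := by
  intro e he
  have hmul : e * (1 - e) = 0 := by rw [mul_sub, mul_one, he, sub_self]
  have hdisj : X.basicOpen e ⊓ X.basicOpen (1 - e) = ⊥ := by
    rw [← Scheme.basicOpen_mul, hmul, Scheme.basicOpen_zero]
  have hcov : X.basicOpen e ⊔ X.basicOpen (1 - e) = ⊤ := by
    rw [eq_top_iff]
    refine le_trans ?_ (X.basicOpen_add_le e (1 - e))
    rw [add_sub_cancel, Scheme.basicOpen_one]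
  -- `basicOpen e` is clopen
  have hcl : IsClopen (X.basicOpen e : Set X) := by
    refine ⟨?_, (X.basicOpen e).isOpen⟩
    have : (X.basicOpen e : Set X) = (X.basicOpen (1 - e) : Set X)ᶜ := by
      ext x
      constructor
      · intro hx hx'
        have : x ∈ X.basicOpen e ⊓ X.basicOpen (1 - e) := ⟨hx, hx'⟩
        rw [hdisj] at this
        exact this
      · intro hx
        have : x ∈ X.basicOpen e ⊔ X.basicOpen (1 - e) := by rw [hcov]; trivial
        rcases this with h | h
        · exact h
        · exact absurd h hx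
    rw [this]
    exact (X.basicOpen (1 - e)).isOpen.isClosed_compl
  rcases isClopen_iff.mp hcl with h | h
  · -- `basicOpen e = ⊥`, so `basicOpen (1 - e) = ⊤`
    left
    have h1 : X.basicOpen (1 - e) = ⊤ := by
      have h0 : X.basicOpen e = ⊥ := by ext1; simpa using h
      rw [h0, bot_sup_eq] at hcov
      exact hcov
    have hu := isUnit_of_basicOpen_eq_top X _ h1
    exact (hu.mul_left_eq_zero).mp hmul
  · right
    have h1 : X.basicOpen e = ⊤ := by ext1; simpa using h
    have hu := isUnit_of_basicOpen_eq_top X _ h1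
    have : 1 - e = 0 := (hu.mul_right_eq_zero).mp hmul
    exact (sub_eq_zero.mp this).symm

end Groth.Agent.Lib.Helper18.ConnComp
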