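/-
Helper18: if `X` is connected over `k`, `K/k` is finite Galois and `X_K` is not connected, then
`X` admits a `k`-morphism to `Spec M` for a proper intermediate field `k ⊊ M ⊆ K`.
-/
import Mathlib
import Groth.Agent.Lib.Helper18.GalDesc

set_option autoImplicit false

namespace Groth.Agent.Lib.Helper18.ConnComp

open AlgebraicGeometry CategoryTheory CategoryTheory.Limits TopologicalSpace
open Groth.Agent.Lib.Helper18.GalFibre

universe u v

/-- Glue global morphisms `g i : Z ⟶ Y` along an open cover `U i`, provided `g i = g j` whenever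
`U i` meets `U j`. -/
lemma exists_glue_of_global {Z Y : Scheme.{u}} {ι : Type v} (U : ι → Z.Opens)
    (hU : IsOpenCover U) (g : ι → (Z ⟶ Y))
    (hg : ∀ i j, ((U i : Set Z) ∩ (U j : Set Z)).Nonempty → g i = g j) :
    ∃ h : Z ⟶ Y, ∀ (i : ι) {T : Scheme.{u}} (j : T ⟶ Z), (∀ t, j.base t ∈ U i) →
      j ≫ h = j ≫ g i := by
  let 𝒰 := Z.openCoverOfIsOpenCover U hU
  have hcompat : ∀ x y : ι, pullback.fst (𝒰.f x) (𝒰.f y) ≫ ((U x).ι ≫ g x) =
      pullback.snd (𝒰.f x) (𝒰.f y) ≫ ((U y).ι ≫ g y) := by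
    intro x y
    by_cases hxy : ((U x : Set Z) ∩ (U y : Set Z)).Nonempty
    · rw [hg x y hxy, ← Category.assoc, ← Category.assoc]
      congr 1
      exact pullback.condition
    · haveI : IsEmpty ↥(pullback (𝒰.f x) (𝒰.f y)) := by
        constructor
        intro z
        apply hxy
        refine ⟨(pullback.fst (𝒰.f x) (𝒰.f y) ≫ 𝒰.f x).base z, ?_, ?_⟩
        · rw [Scheme.Hom.comp_apply]
          exact ((pullback.fst (𝒰.f x) (𝒰.f y)).base z).2
        · rw [pullback.condition, Scheme.Hom.comp_apply]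
          exact ((pullback.snd (𝒰.f x) (𝒰.f y)).base z).2
      exact (isInitialOfIsEmpty (X := pullback (𝒰.f x) (𝒰.f y))).hom_ext _ _
  refine ⟨𝒰.glueMorphisms (fun i => (U i).ι ≫ g i) hcompat, ?_⟩
  intro i T j hj
  have hrange : Set.range j.base ⊆ Set.range (U i).ι.base := by
    rintro _ ⟨t, rfl⟩
    rw [Scheme.Opens.range_ι]
    exact hj t
  have hfac : IsOpenImmersion.lift (U i).ι j hrange ≫ (U i).ι = j := IsOpenImmersion.lift_fac _ _ _
  have hι : (U i).ι ≫ 𝒰.glueMorphisms (fun i => (U i).ι ≫ g i) hcompat = (U i).ι ≫ g i :=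
    𝒰.ι_glueMorphisms _ hcompat i
  rw [← hfac, Category.assoc, hι, Category.assoc]

section Split

variable {k : Type u} [Field k] {K : Type u} [Field K] [Algebra k K]

/-- **Splitting off a field**: if `X` is (pre)connected, `K/k` finite Galois, and `X_K` has a
nontrivial clopen subset, then `X` maps (over `k`) to `Spec` of the fixed field of a proper
subgroup of the Galois group. -/
theorem exists_hom_fixedField [FiniteDimensional k K] [IsGalois k K] {X : Scheme.{u}}
    (f : X ⟶ Spec (CommRingCat.of k)) [PreconnectedSpace X]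
    (V : Set ↥(pullback f (sK k K))) (hV : IsClopen V) (hne : V.Nonempty) (hVu : V ≠ Set.univ) :
    ∃ H : Subgroup (K ≃ₐ[k] K), H ≠ ⊤ ∧
      ∃ v : X ⟶ Spec (CommRingCat.of (IntermediateField.fixedField H)),
        v ≫ Spec.map (CommRingCat.ofHom (algebraMap k (IntermediateField.fixedField H))) = f := by
  classical
  let p := pullback.fst f (sK k K)
  let a : (K ≃ₐ[k] K) → ↥(pullback f (sK k K)) → ↥(pullback f (sK k K)) :=
    fun σ => (actOf f σ).base
  have ha_cont : ∀ σ, Continuous (a σ) := fun σ => (actOf f σ).continuous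
  have ha_mul : ∀ σ τ t, a τ (a σ t) = a (σ * τ) t := by
    intro σ τ t
    change (actOf f τ).base ((actOf f σ).base t) = (actOf f (σ * τ)).base t
    rw [← Scheme.Hom.comp_apply, actOf_mul]
  have ha_one : ∀ t, a 1 t = t := by
    intro t
    change (actOf f (1 : K ≃ₐ[k] K)).base t = t
    rw [actOf_one]; rfl
  let c : ↥(pullback f (sK k K)) → Set (K ≃ₐ[k] K) := fun t => {σ | a σ t ∈ V}
  have hc : ∀ ρ t, c (a ρ t) = (fun σ => ρ * σ) ⁻¹' (c t) := by
    intro ρ t
    ext σ
    change a σ (a ρ t) ∈ V ↔ a (ρ * σ) t ∈ V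
    rw [ha_mul]
  obtain ⟨t₀, ht₀⟩ := hne
  let S₀ := c t₀
  let W : Set ↥(pullback f (sK k K)) := {t | c t = S₀}
  have hW_clopen : IsClopen W := by
    have : W = ⋂ σ : K ≃ₐ[k] K, {t | a σ t ∈ V ↔ σ ∈ S₀} := by
      ext t
      simp only [Set.mem_iInter, Set.mem_setOf_eq]
      constructor
      · intro (h : c t = S₀) σ
        rw [← h]; rfl
      · intro h
        change c t = S₀
        ext σ
        exact h σ
    rw [this]
    apply isClopen_iInter_of_finite
    intro σ
    by_cases hσ : σ ∈ S₀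
    · have : {t | a σ t ∈ V ↔ σ ∈ S₀} = a σ ⁻¹' V := by
        ext t; simp [hσ]
      rw [this]
      exact hV.preimage (ha_cont σ)
    · have : {t | a σ t ∈ V ↔ σ ∈ S₀} = a σ ⁻¹' Vᶜ := by
        ext t; simp [hσ]
      rw [this]
      exact hV.compl.preimage (ha_cont σ)
  have ht₀W : t₀ ∈ W := rfl
  have hWV : W ⊆ V := by
    intro t (ht : c t = S₀)
    have h1 : (1 : K ≃ₐ[k] K) ∈ S₀ := by
      change a 1 t₀ ∈ V
      rw [ha_one]; exact ht₀
    rw [← ht] at h1
    have : a 1 t ∈ V := h1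
    rwa [ha_one] at this
  -- block property
  have hblock : ∀ ρ s, s ∈ W → a ρ s ∈ W → a ρ ⁻¹' W = W := by
    intro ρ s (hs : c s = S₀) (hρs : c (a ρ s) = S₀)
    rw [hc, hs] at hρs
    ext t
    change c (a ρ t) = S₀ ↔ c t = S₀
    rw [hc]
    constructor
    · intro h
      rw [← hρs] at h
      exact (Set.preimage_injective.mpr (Equiv.mulLeft ρ).surjective) h
    · intro h
      rw [h, hρs]
  -- `p '' W = univ`
  have hpW : p.base '' W = Set.univ := by
    haveI : IsIntegralHom (sK k K) := by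
      rw [IsIntegralHom.SpecMap_iff]
      exact algebraMap_isIntegral_iff.mpr inferInstance
    have hcl : IsClopen (p.base '' W) :=
      ⟨(pullback.fst f (sK k K)).isClosedMap _ hW_clopen.1,
        (pullback.fst f (sK k K)).isOpenMap _ hW_clopen.2⟩
    exact hcl.eq_univ ⟨_, t₀, ht₀W, rfl⟩
  -- the stabiliser subgroup
  let H : Subgroup (K ≃ₐ[k] K) :=
    { carrier := {ρ | a ρ ⁻¹' W = W}
      one_mem' := by
        change a 1 ⁻¹' W = W
        ext t; simp only [Set.mem_preimage, ha_one]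
      mul_mem' := by
        intro ρ ρ' (h : a ρ ⁻¹' W = W) (h' : a ρ' ⁻¹' W = W)
        change a (ρ * ρ') ⁻¹' W = W
        ext t
        rw [Set.mem_preimage, ← ha_mul, ← Set.mem_preimage, h', ← Set.mem_preimage, h]
      inv_mem' := by
        intro ρ (h : a ρ ⁻¹' W = W)
        change a ρ⁻¹ ⁻¹' W = W
        ext t
        rw [Set.mem_preimage]
        conv_lhs => rw [← h]
        rw [Set.mem_preimage, ha_mul, inv_mul_cancel, ha_one] }
  have hH_mem : ∀ ρ, ρ ∈ H ↔ a ρ ⁻¹' W = W := fun ρ => Iff.rfl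
  have hH_ne : H ≠ ⊤ := by
    intro hH
    apply hVu
    have hinv : ∀ σ : K ≃ₐ[k] K, (actOf f σ).base '' W = W := by
      intro σ
      have h1 : a σ ⁻¹' W = W := (hH_mem σ).mp (by rw [hH]; trivial)
      have hsurj : Function.Surjective (a σ) := fun t =>
        ⟨a σ⁻¹ t, by rw [ha_mul, inv_mul_cancel, ha_one]⟩
      conv_lhs => rw [← h1]
      exact Set.image_preimage_eq _ hsurj
    have := preimage_image_eq_of_invariant f W hinv
    rw [hpW, Set.preimage_univ] at this
    exact Set.eq_univ_of_univ_subset (this ▸ hWV)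
  refine ⟨H, hH_ne, ?_⟩
  -- the global morphisms
  let M := IntermediateField.fixedField H
  let sM : Spec (CommRingCat.of K) ⟶ Spec (CommRingCat.of M) :=
    Spec.map (CommRingCat.ofHom (algebraMap M K))
  have hsM : ∀ ρ ∈ H, specσ ρ ≫ sM = sM := by
    intro ρ hρ
    change Spec.map _ ≫ Spec.map _ = Spec.map _
    rw [← Spec.map_comp, ← CommRingCat.ofHom_comp]
    congr 2
    ext m
    exact m.2 ⟨ρ, hρ⟩
  let g : (K ≃ₐ[k] K) → (pullback f (sK k K) ⟶ Spec (CommRingCat.of M)) :=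
    fun τ => actOf f τ ≫ pullback.snd f (sK k K) ≫ sM
  let U : (K ≃ₐ[k] K) → (pullback f (sK k K)).Opens :=
    fun τ => ⟨a τ ⁻¹' W, hW_clopen.2.preimage (ha_cont τ)⟩
  have hU : IsOpenCover U := by
    apply IsOpenCover.mk
    rw [eq_top_iff]
    intro t _
    have : p.base t ∈ p.base '' W := by rw [hpW]; trivial
    obtain ⟨w, hw, hwt⟩ := this
    obtain ⟨σ, hσ⟩ := exists_actOf_eq f t w hwt.symm
    rw [Opens.mem_iSup]
    exact ⟨σ, show a σ t ∈ W by rw [show a σ t = w from hσ]; exact hw⟩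
  have hg : ∀ τ τ', ((U τ : Set ↥(pullback f (sK k K))) ∩
      (U τ' : Set ↥(pullback f (sK k K)))).Nonempty → g τ = g τ' := by
    rintro τ τ' ⟨t, (ht : a τ t ∈ W), (ht' : a τ' t ∈ W)⟩
    have hρ : τ⁻¹ * τ' ∈ H := by
      rw [hH_mem]
      apply hblock _ (a τ t) ht
      rw [ha_mul, mul_inv_cancel_left]
      exact ht'
    have : actOf f τ' = actOf f τ ≫ actOf f (τ⁻¹ * τ') := by
      rw [actOf_mul, mul_inv_cancel_left]
    change actOf f τ ≫ _ = actOf f τ' ≫ _
    rw [this, Category.assoc]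
    congr 1
    rw [actOf_snd_assoc, hsM _ hρ]
  obtain ⟨h, hh⟩ := exists_glue_of_global U hU g hg
  -- invariance
  have hinv : ∀ σ : K ≃ₐ[k] K, actOf f σ ≫ h = h := by
    intro ρ
    apply (pullback f (sK k K)).openCoverOfIsOpenCover U hU |>.hom_ext
    intro (τ : K ≃ₐ[k] K)
    change (U τ).ι ≫ actOf f ρ ≫ h = (U τ).ι ≫ h
    have h1 := hh τ (U τ).ι (fun t => t.2)
    have h2 := hh (ρ⁻¹ * τ) ((U τ).ι ≫ actOf f ρ) (fun t => by
      rw [Scheme.Hom.comp_apply]
      change a (ρ⁻¹ * τ) (a ρ ((U τ).ι.base t)) ∈ W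
      rw [ha_mul, mul_inv_cancel_left]
      exact t.2)
    rw [h1, ← Category.assoc, h2, Category.assoc]
    congr 1
    change actOf f ρ ≫ actOf f (ρ⁻¹ * τ) ≫ _ = actOf f τ ≫ _
    rw [← Category.assoc, actOf_mul, mul_inv_cancel_left]
  obtain ⟨v, hv⟩ := exists_desc f h hinv
  refine ⟨v, ?_⟩
  rw [← cancel_epi (pullback.fst f (sK k K)), ← Category.assoc, hv]
  apply (pullback f (sK k K)).openCoverOfIsOpenCover U hU |>.hom_ext
  intro (τ : K ≃ₐ[k] K)
  change (U τ).ι ≫ h ≫ _ = (U τ).ι ≫ pullback.fst f (sK k K) ≫ f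
  rw [← Category.assoc, hh τ (U τ).ι (fun t => t.2), Category.assoc]
  congr 1
  change (actOf f τ ≫ pullback.snd f (sK k K) ≫ sM) ≫ _ = _
  have hsMk : sM ≫ Spec.map (CommRingCat.ofHom (algebraMap k M)) = sK k K := by
    change Spec.map _ ≫ Spec.map _ = Spec.map _
    rw [← Spec.map_comp, ← CommRingCat.ofHom_comp]
    congr 2
  rw [Category.assoc, Category.assoc, hsMk, ← pullback.condition, actOf_fst_assoc]

end Split

end Groth.Agent.Lib.Helper18.ConnComp
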