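/-
Helper18: if `X` is connected and `k` is separably closed in `Γ(X, O_X)` then `X` is
geometrically connected over `k` (Stacks 0BUG-type statement).
-/
import Mathlib
import Groth.Agent.Lib.Helper18.ConnComp.Split
import Groth.Agent.Lib.Helper18.ConnComp.GammaIdem
import Groth.Agent.Lib.Helper18.GeomConnFin
import Groth.Agent.Lib.Helper22.SchBC
import Groth.Agent.S1559

set_option autoImplicit false

namespace Groth.Agent.Lib.Helper18.ConnComp

open AlgebraicGeometry CategoryTheory CategoryTheory.Limits TopologicalSpace Polynomial
open Groth.Agent.Lib.Helper18.GalFibre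

universe u

variable {k : Type u} [Field k] {X : Scheme.{u}}

/-- The ring map `k → Γ(X, O_X)` attached to `f : X ⟶ Spec k`. -/
noncomputable def gammaHom (f : X ⟶ Spec (CommRingCat.of k)) : k →+* Γ(X, ⊤) :=
  ((Scheme.ΓSpecIso (CommRingCat.of k)).inv ≫ f.appTop).hom

lemma gammaHom_comp {L : Type u} [Field L] [Algebra k L] (v : X ⟶ Spec (CommRingCat.of L)) :
    gammaHom (v ≫ Spec.map (CommRingCat.ofHom (algebraMap k L))) =
      (gammaHom v).comp (algebraMap k L) := by
  unfold gammaHom
  rw [Scheme.Hom.comp_appTop, ← Category.assoc, ← Scheme.ΓSpecIso_inv_naturality]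
  rfl

/-- `k` is separably closed in `Γ(X, O_X)`. -/
def SepClosedIn (f : X ⟶ Spec (CommRingCat.of k)) : Prop :=
  ∀ (a : Γ(X, ⊤)) (q : k[X]), q.Separable → q.eval₂ (gammaHom f) a = 0 → ∃ c : k, gammaHom f c = a

variable {K : Type u} [Field K] [Algebra k K]

/-- If `X` is connected and `k` is separably closed in `Γ(X)`, then `X_K` is connected for all
finite Galois `K/k`. -/
theorem connectedSpace_pullback_of_sepClosedIn [ConnectedSpace X]
    (f : X ⟶ Spec (CommRingCat.of k)) (hf : SepClosedIn f) [FiniteDimensional k K] [IsGalois k K] :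
    ConnectedSpace ↥(pullback f (sK k K)) := by
  rw [connectedSpace_iff_clopen]
  constructor
  · obtain ⟨x⟩ : Nonempty X := inferInstance
    obtain ⟨t, -⟩ := (pullback.fst f (sK k K)).surjective x
    exact ⟨t⟩
  · intro V hV
    by_contra hcon
    push_neg at hcon
    obtain ⟨H, hH, v, hv⟩ := exists_hom_fixedField f V hV
      hcon.1 hcon.2
    apply hH
    rw [← IntermediateField.fixingSubgroup_fixedField H, eq_top_iff]
    intro σ _
    rw [IntermediateField.mem_fixingSubgroup_iff]
    intro m hm
    let M := IntermediateField.fixedField H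
    haveI : Algebra.IsSeparable k M := Algebra.isSeparable_tower_bot_of_isSeparable k M K
    let m' : M := ⟨m, hm⟩
    haveI : Nonempty ↥(⊤ : X.Opens) := by
      obtain ⟨x⟩ : Nonempty X := inferInstance
      exact ⟨⟨x, trivial⟩⟩
    haveI : Nontrivial Γ(X, ⊤) := inferInstance
    have hφ : gammaHom f = (gammaHom v).comp (algebraMap k M) := by
      rw [← hv]; exact gammaHom_comp v
    have h0 : (minpoly k m').eval₂ (gammaHom f) (gammaHom v m') = 0 := by
      rw [hφ, ← Polynomial.eval₂_map, Polynomial.eval₂_hom, Polynomial.eval_map_algebraMap,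
        minpoly.aeval, map_zero]
    obtain ⟨c, hc⟩ := hf _ _ (Algebra.IsSeparable.isSeparable k m') h0
    rw [hφ, RingHom.comp_apply] at hc
    have hmc : algebraMap k M c = m' := (gammaHom v).injective hc
    have : m = algebraMap k K c := by
      have := congrArg (algebraMap M K) hmc
      rw [← IsScalarTower.algebraMap_apply] at this
      exact this.symm
    rw [this]
    exact σ.commutes c

/-- **Connected + separably closed constants ⇒ geometrically connected.** -/
theorem geometricallyConnected_of_sepClosedIn [ConnectedSpace X]
    (f : X ⟶ Spec (CommRingCat.of k)) (hf : SepClosedIn f) : GeometricallyConnected f := by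
  letI : X.Over (Spec (CommRingCat.of k)) := ⟨f⟩
  haveI : ConnectedSpace ↥(Curv2.bc k X (SeparableClosure k)) := by
    refine GeomConnFin.connectedSpace_bc_of_forall_finite f (Ω := SeparableClosure k)
      (fun K hK => ?_)
    haveI := hK
    haveI : IsGalois k (IntermediateField.normalClosure k K (SeparableClosure k)) :=
      IsGalois.normalClosure k K (SeparableClosure k)
    haveI : FiniteDimensional k (IntermediateField.normalClosure k K (SeparableClosure k)) :=
      normalClosure.is_finiteDimensional k K _
    haveI : ConnectedSpace ↥(FBase.bc f (IntermediateField.normalClosure k K (SeparableClosure k))) :=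
      connectedSpace_pullback_of_sepClosedIn f hf
    have hs := Groth.Agent.Lib.Helper22.SchBC.surjective_bcMap f K
      (IntermediateField.normalClosure k K (SeparableClosure k))
    exact hs.surj.connectedSpace (Scheme.Hom.continuous _)
  exact Groth.Agent.S1559.result k X

end Groth.Agent.Lib.Helper18.ConnComp
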