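/-
Helper18: algebra for "geometrically connected proper ⇔ Γ local, zero-dimensional with purely
inseparable residue field".
-/
import Mathlib
import Groth.Agent.Lib.Helper18.ConnComp.SepSub

set_option autoImplicit false

namespace Groth.Agent.Lib.Helper18.ConnComp

open Polynomial

universe u v

variable {k : Type u} [Field k] {R : Type v} [CommRing R] [Algebra k R]

/-- In an algebra without nontrivial idempotents, a vanishing product of coprime polynomials in
`a` has a vanishing factor. -/
lemma aeval_eq_zero_or_of_isCoprime (hR : NoIdem R) {a : R} {g h : k[X]} (hc : IsCoprime g h)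
    (hma : aeval a (g * h) = 0) : aeval a g = 0 ∨ aeval a h = 0 := by
  obtain ⟨u, v, huv⟩ := hc
  have hsum : aeval a (u * g) + aeval a (v * h) = 1 := by
    rw [← map_add, huv, map_one]
  have hprod : aeval a (u * g) * aeval a (v * h) = 0 := by
    rw [← map_mul, show u * g * (v * h) = u * v * (g * h) by ring, map_mul, hma, mul_zero]
  have hidem : aeval a (u * g) * aeval a (u * g) = aeval a (u * g) := by
    have : aeval a (v * h) = 1 - aeval a (u * g) := by rw [← hsum]; ring
    rw [this, mul_sub, mul_one, sub_eq_zero] at hprod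
    exact hprod.symm
  rcases hR _ hidem with h0 | h1
  · left
    have h1 : aeval a (v * h) = 1 := by rw [h0, zero_add] at hsum; exact hsum
    have : aeval a g = aeval a g * aeval a (v * h) := by rw [h1, mul_one]
    rw [this, ← map_mul, show g * (v * h) = v * (g * h) by ring, map_mul, hma, mul_zero]
  · right
    have : aeval a h = aeval a h * aeval a (u * g) := by rw [h1, mul_one]
    rw [this, ← map_mul, show h * (u * g) = u * (g * h) by ring, map_mul, hma, mul_zero]

/-- In a `k`-algebra without nontrivial idempotents, integral elements are units or nilpotent. -/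
lemma isUnit_or_isNilpotent_of_isIntegral (hR : NoIdem R) {a : R} (ha : IsIntegral k a) :
    IsUnit a ∨ IsNilpotent a := by
  have hm0 : minpoly k a ≠ 0 := minpoly.ne_zero ha
  obtain ⟨h, hmh, hXh⟩ := Polynomial.exists_eq_pow_rootMultiplicity_mul_and_not_dvd
    (minpoly k a) hm0 (0 : k)
  rw [C_0, sub_zero] at hmh hXh
  set j := (minpoly k a).rootMultiplicity 0 with hj
  have hcop : IsCoprime (X ^ j) h :=
    ((Polynomial.irreducible_X (R := k)).coprime_iff_not_dvd.mpr hXh).pow_left
  have hma : aeval a (X ^ j * h) = 0 := by rw [← hmh]; exact minpoly.aeval k a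
  rcases aeval_eq_zero_or_of_isCoprime hR hcop hma with h1 | h1
  · right
    rw [map_pow, aeval_X] at h1
    exact ⟨j, h1⟩
  · left
    have hdvd : X ^ j * h ∣ 1 * h := by
      rw [one_mul, ← hmh]; exact minpoly.dvd k a h1
    have hh0 : h ≠ 0 := by rintro rfl; rw [mul_zero] at hmh; exact hm0 hmh
    have hunit : IsUnit ((X : k[X]) ^ j) :=
      isUnit_of_dvd_one ((mul_dvd_mul_iff_right hh0).mp hdvd)
    have hj0 : j = 0 := by
      by_contra hne
      have := (isUnit_pow_iff hne).mp hunit
      exact Polynomial.not_isUnit_X this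
    rw [hj0, pow_zero, one_mul] at hmh
    -- `X ∤ minpoly`, so constant coefficient nonzero
    have hc0 : (minpoly k a).coeff 0 ≠ 0 := by
      intro h0
      apply hXh
      rw [← hmh]
      exact Polynomial.X_dvd_iff.mpr h0
    have hdecomp := Polynomial.divX_mul_X_add (minpoly k a)
    have h2 : aeval a ((minpoly k a).divX) * a + algebraMap k R ((minpoly k a).coeff 0) = 0 := by
      have := congrArg (aeval a) hdecomp
      rw [map_add, map_mul, aeval_X, aeval_C, minpoly.aeval] at this
      exact this
    have hu : IsUnit (algebraMap k R ((minpoly k a).coeff 0)) :=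
      (IsUnit.mk0 _ hc0).map (algebraMap k R)
    have h3 : a * (- aeval a ((minpoly k a).divX)) = algebraMap k R ((minpoly k a).coeff 0) := by
      linear_combination (-1 : R) * h2
    exact isUnit_of_mul_isUnit_left (h3 ▸ hu)

/-- An integral `k`-algebra without nontrivial idempotents is local of Krull dimension zero. -/
lemma isLocalRing_and_krullDimLE_of_noIdem [Nontrivial R] (hR : NoIdem R)
    [Algebra.IsIntegral k R] : Ring.KrullDimLE 0 R ∧ IsLocalRing R := by
  refine ((Ring.krullDimLE_zero_and_isLocalRing_tfae R).out 2 0 rfl rfl).mp ?_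
  intro x
  constructor
  · intro hx hu
    obtain ⟨n, hn⟩ := hx
    have := hu.pow n
    rw [hn] at this
    exact not_isUnit_zero this
  · intro hx
    exact (isUnit_or_isNilpotent_of_isIntegral hR (Algebra.IsIntegral.isIntegral (R := k) x)).resolve_left hx

/-- If `k` is separably closed in the integral idempotent-free `k`-algebra `R`, then the residue
field of `R` is purely inseparable over `k`, in the elementwise form. -/
lemma exists_pow_sub_isNilpotent [Nontrivial R] (hR : NoIdem R) [Algebra.IsIntegral k R]
    (hsc : ∀ a : R, IsSepRoot k a → ∃ c : k, algebraMap k R c = a) (a : R) :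
    ∃ (n : ℕ) (c : k), IsNilpotent (a ^ (ringExpChar k ^ n) - algebraMap k R c) := by
  obtain ⟨hdim, hloc⟩ := isLocalRing_and_krullDimLE_of_noIdem (k := k) hR
  haveI hmax : (nilradical R).IsMaximal :=
    ((Ring.krullDimLE_zero_and_isLocalRing_tfae R).out 0 3 rfl rfl).mp ⟨hdim, hloc⟩
  letI : Field (R ⧸ nilradical R) := Ideal.Quotient.field _
  let κ := R ⧸ nilradical R
  let π : R →ₐ[k] κ := Ideal.Quotient.mkₐ k (nilradical R)
  haveI : Algebra.IsIntegral k κ := ⟨fun z => by
    obtain ⟨b, rfl⟩ := Ideal.Quotient.mk_surjective z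
    exact (Algebra.IsIntegral.isIntegral (R := k) b).map π⟩
  haveI : ExpChar k (ringExpChar k) := ringExpChar.expChar k
  haveI : ExpChar (separableClosure k κ) (ringExpChar k) :=
    expChar_of_injective_algebraMap (algebraMap k (separableClosure k κ)).injective _
  obtain ⟨n, y, hy⟩ := IsPurelyInseparable.pow_mem (separableClosure k κ) (ringExpChar k) (π a)
  have hsep : IsSeparable k (π a ^ ringExpChar k ^ n) := by
    rw [← hy]
    exact mem_separableClosure_iff.mp y.2
  set b := a ^ ringExpChar k ^ n with hb
  have hπb : π b = π a ^ ringExpChar k ^ n := map_pow π a _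
  rw [← hπb] at hsep
  set P := minpoly k (π b) with hP
  have hPsep : P.Separable := hsep
  have hker : ∀ z : R, π z = 0 ↔ IsNilpotent z := by
    intro z
    change Ideal.Quotient.mk (nilradical R) z = 0 ↔ _
    rw [Ideal.Quotient.eq_zero_iff_mem, mem_nilradical]
  have h1 : IsNilpotent (aeval b P) := by
    rw [← hker, ← Polynomial.aeval_algHom_apply, hP, minpoly.aeval]
  have h2 : IsUnit (aeval b (derivative P)) := by
    obtain ⟨u, v, huv⟩ := hPsep
    have hnil_iff := (Ring.krullDimLE_zero_and_isLocalRing_tfae R).out 0 2 rfl rfl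
    have hnu := (hnil_iff.mp ⟨hdim, hloc⟩ (aeval b (derivative P)))
    by_contra hcon
    have hnil : IsNilpotent (aeval b (derivative P)) := hnu.mpr hcon
    have h0 : π (aeval b (derivative P)) = 0 := (hker _).mpr hnil
    have h3 := congrArg (fun q => aeval (π b) q) huv
    simp only [map_add, map_mul, map_one] at h3
    rw [hP, minpoly.aeval, mul_zero, zero_add, ← hP, Polynomial.aeval_algHom_apply π b (derivative P),
      h0, mul_zero] at h3
    exact zero_ne_one h3
  obtain ⟨r, ⟨hr1, hr2⟩, -⟩ := Polynomial.existsUnique_nilpotent_sub_and_aeval_eq_zero h1 h2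
  obtain ⟨c, hc⟩ := hsc r ⟨P, hPsep, hr2⟩
  exact ⟨n, c, by rw [hc]; exact hr1⟩

/-- Conversely: if every element of the (nontrivial, idempotent-free) `k`-algebra `R` has a
`q^n`-th power which is a scalar up to nilpotents, then `k` is separably closed in `R`. -/
lemma sepClosed_of_exists_pow [Nontrivial R] (hR : NoIdem R)
    (hpow : ∀ a : R, ∃ (n : ℕ) (c : k), IsNilpotent (a ^ (ringExpChar k ^ n) - algebraMap k R c))
    (a : R) (ha : IsSepRoot k a) : ∃ c : k, algebraMap k R c = a := by
  obtain ⟨M, _, _, _, _, ψ, x, rfl⟩ := ha.exists_field hR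
  obtain ⟨n, c, hnil⟩ := hpow (ψ x)
  have hx : x ^ ringExpChar k ^ n = algebraMap k M c := by
    have h1 : ψ (x ^ ringExpChar k ^ n - algebraMap k M c) =
        ψ x ^ ringExpChar k ^ n - algebraMap k R c := by
      rw [map_sub, map_pow, ψ.commutes]
    rw [← h1] at hnil
    obtain ⟨m, hm⟩ := hnil
    rw [← map_pow, map_eq_zero_iff ψ ψ.toRingHom.injective] at hm
    exact sub_eq_zero.mp (IsNilpotent.eq_zero ⟨m, hm⟩)
  have hmem : x ∈ perfectClosure k M :=
    mem_perfectClosure_iff.mpr ⟨n, c, hx.symm⟩
  rw [perfectClosure.eq_bot_of_isSeparable k M, IntermediateField.mem_bot] at hmem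
  obtain ⟨c', rfl⟩ := hmem
  exact ⟨c', (ψ.commutes c').symm⟩

end Groth.Agent.Lib.Helper18.ConnComp
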