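/-
Helper18: images of connected components of `X_K` in `X` are connected components
(Stacks 04PZ), for arbitrary field extensions `K/k` and arbitrary `k`-schemes `X`.
-/
import Mathlib
import Groth.Agent.Lib.Helper18.ConnComp.GalConn
import Groth.Agent.Lib.Helper18.GalFibreGeom

set_option autoImplicit false

namespace Groth.Agent.Lib.Helper18.ConnComp

open AlgebraicGeometry CategoryTheory CategoryTheory.Limits TopologicalSpace Polynomial
open Groth.Agent.Lib.Helper18.GalFibre

universe u

variable {k : Type u} [Field k] {X : Scheme.{u}}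

/-- The morphism `X ⟶ Spec R` attached to a ring map `R → Γ(X, O_X)`. -/
noncomputable def homOfRingHom {R : Type u} [CommRing R] (ι : R →+* Γ(X, ⊤)) :
    X ⟶ Spec (CommRingCat.of R) :=
  X.toSpecΓ ≫ Spec.map (CommRingCat.ofHom ι)

lemma gammaHom_homOfRingHom {L : Type u} [Field L] (ι : L →+* Γ(X, ⊤)) :
    gammaHom (homOfRingHom ι) = ι := by
  unfold gammaHom homOfRingHom
  rw [Scheme.Hom.comp_appTop, ← Category.assoc, ← Scheme.ΓSpecIso_inv_naturality,
    Category.assoc, Scheme.toSpecΓ_appTop, Iso.inv_hom_id, Category.comp_id]
  rfl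

lemma homOfRingHom_gammaHom (f : X ⟶ Spec (CommRingCat.of k)) :
    homOfRingHom (gammaHom f) = f := by
  unfold gammaHom homOfRingHom
  rw [CommRingCat.ofHom_hom, Spec.map_comp, ← Category.assoc, ← Scheme.toSpecΓ_naturality,
    Category.assoc, toSpecΓ_SpecMap_ΓSpecIso_inv, Category.comp_id]

/-- Every connected `k`-scheme factors through `Spec L` with `L/k` separable algebraic and `L`
separably closed in `Γ(X, O_X)`. -/
theorem exists_sepClosed_factor [ConnectedSpace X] (f : X ⟶ Spec (CommRingCat.of k)) :
    ∃ (L : Type u) (_ : Field L) (_ : Algebra k L) (_ : Algebra.IsSeparable k L)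
      (w : X ⟶ Spec (CommRingCat.of L)),
      w ≫ Spec.map (CommRingCat.ofHom (algebraMap k L)) = f ∧ SepClosedIn w := by
  letI : Algebra k Γ(X, ⊤) := (gammaHom f).toAlgebra
  haveI : Nonempty ↥(⊤ : X.Opens) := by
    obtain ⟨x⟩ : Nonempty X := inferInstance
    exact ⟨⟨x, trivial⟩⟩
  haveI : Nontrivial Γ(X, ⊤) := inferInstance
  obtain ⟨L, _, _, _, ι, hι⟩ := exists_sepClosed_subfield (k := k) (A := Γ(X, ⊤)) (noIdem_Γ X)
  refine ⟨L, inferInstance, inferInstance, inferInstance, homOfRingHom (ι : L →+* Γ(X, ⊤)), ?_, ?_⟩
  · conv_rhs => rw [← homOfRingHom_gammaHom f]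
    unfold homOfRingHom
    rw [Category.assoc, ← Spec.map_comp, ← CommRingCat.ofHom_comp]
    congr 3
    ext c
    exact ι.commutes c
  · intro a q hq hqa
    rw [gammaHom_homOfRingHom] at hqa ⊢
    exact hι a q hq hqa

/-- For connected `X`, every connected component of `X_K` surjects onto `X`. -/
theorem image_connectedComponent_eq_univ [ConnectedSpace X] (f : X ⟶ Spec (CommRingCat.of k))
    (K : Type u) [Field K] [Algebra k K] (t : ↥(pullback f (sK k K))) :
    (pullback.fst f (sK k K)).base '' connectedComponent t = Set.univ := by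
  obtain ⟨L, _, _, _, w, hw, hsc⟩ := exists_sepClosed_factor f
  subst hw
  haveI hgc : GeometricallyConnected w := geometricallyConnected_of_sepClosedIn w hsc
  haveI : Subsingleton ↥(Spec (CommRingCat.of L)) :=
    inferInstanceAs (Subsingleton (PrimeSpectrum L))
  haveI : UniversallyOpen w := inferInstance
  let g : Spec (CommRingCat.of L) ⟶ Spec (CommRingCat.of k) :=
    Spec.map (CommRingCat.ofHom (algebraMap k L))
  have hpb := isPullback_mapOf (K := K) w g
  haveI : GeometricallyConnected (mapOf (K := K) w g) :=
    MorphismProperty.of_isPullback (P := @GeometricallyConnected) hpb.flip hgc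
  haveI : UniversallyOpen (mapOf (K := K) w g) :=
    MorphismProperty.of_isPullback (P := @UniversallyOpen) hpb.flip inferInstance
  have hopen : IsOpenMap (mapOf (K := K) w g).base := (mapOf (K := K) w g).isOpenMap
  have h1 : _root_.IsConnected ((mapOf (K := K) w g).base ⁻¹'
      connectedComponent ((mapOf (K := K) w g).base t)) :=
    (mapOf (K := K) w g).isConnected_preimage hopen isConnected_connectedComponent
      isClosed_connectedComponent
  have h2 : (mapOf (K := K) w g).base ⁻¹' connectedComponent ((mapOf (K := K) w g).base t) ⊆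
      connectedComponent t :=
    h1.isPreconnected.subset_connectedComponent (show t ∈ _ from mem_connectedComponent)
  apply Set.eq_univ_of_forall
  intro x
  obtain ⟨t', ht'π, ht'p⟩ := Scheme.exists_preimage_of_isPullback hpb
    ((mapOf (K := K) w g).base t) x (Subsingleton.elim _ _)
  refine ⟨t', h2 ?_, ht'p⟩
  rw [Set.mem_preimage, ht'π]
  exact mem_connectedComponent

/-- **Stacks 04PZ**: the image in `X` of a connected component of `X_K` is a connected
component of `X` (any `k`-scheme `X`, any field extension `K/k`). -/
theorem image_connectedComponent (f : X ⟶ Spec (CommRingCat.of k))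
    (K : Type u) [Field K] [Algebra k K] (x' : ↥(pullback f (sK k K))) :
    (pullback.fst f (sK k K)).base '' connectedComponent x' =
      connectedComponent ((pullback.fst f (sK k K)).base x') := by
  apply Set.Subset.antisymm
  · exact (isPreconnected_connectedComponent.image _
      (pullback.fst f (sK k K)).continuous.continuousOn).subset_connectedComponent
      ⟨x', mem_connectedComponent, rfl⟩
  · let C := connectedComponent ((pullback.fst f (sK k K)).base x')
    have hC : IsClosed C := isClosed_connectedComponent
    let I := Scheme.IdealSheafData.vanishingIdeal ⟨C, hC⟩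
    let ι := I.subschemeι
    have hr : Set.range ι = C := by
      rw [Scheme.IdealSheafData.range_subschemeι,
        Scheme.IdealSheafData.coe_support_vanishingIdeal]
      rfl
    haveI : ConnectedSpace ↥I.subscheme := by
      apply Groth.Agent.Lib.Helper18.GalFibre.connectedSpace_of_isInducing_of_isConnected_range
        ι.isEmbedding.isInducing
      rw [hr]
      exact isConnected_connectedComponent
    have hpb := isPullback_mapOf (K := K) ι f
    obtain ⟨y, hy⟩ : (pullback.fst f (sK k K)).base x' ∈ Set.range ι := by
      rw [hr]; exact mem_connectedComponent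
    obtain ⟨y', hy'j, hy'p⟩ := Scheme.exists_preimage_of_isPullback hpb x' y hy.symm
    have huniv := image_connectedComponent_eq_univ (ι ≫ f) K y'
    have hsub : (mapOf (K := K) ι f).base '' connectedComponent y' ⊆ connectedComponent x' :=
      (isPreconnected_connectedComponent.image _
        (mapOf (K := K) ι f).continuous.continuousOn).subset_connectedComponent
        ⟨y', mem_connectedComponent, hy'j⟩
    intro x (hx : x ∈ C)
    rw [← hr] at hx
    obtain ⟨z, rfl⟩ := hx
    have : z ∈ (pullback.fst (ι ≫ f) (sK k K)).base '' connectedComponent y' := by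
      rw [huniv]; trivial
    obtain ⟨t, ht, rfl⟩ := this
    refine ⟨(mapOf (K := K) ι f).base t, hsub ⟨t, ht, rfl⟩, ?_⟩
    rw [← Scheme.Hom.comp_apply, mapOf_fst, Scheme.Hom.comp_apply]

end Groth.Agent.Lib.Helper18.ConnComp
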