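/-
Helper18: converse to `noIdem_Γ`, and `k` is separably closed in `Γ(X)` for geometrically
connected `X`.
-/
import Mathlib
import Groth.Agent.Lib.Helper18.ConnComp.Main
import Groth.Agent.Lib.Helper18.ConnComp.LocalPI
import Groth.Agent.S2150

set_option autoImplicit false

namespace Groth.Agent.Lib.Helper18.ConnComp

open AlgebraicGeometry CategoryTheory CategoryTheory.Limits TopologicalSpace Polynomial Opposite
open Groth.Agent.Lib.Helper18.GalFibre

universe u

lemma subsingleton_Γ_of_eq_bot (X : Scheme.{u}) : ∀ W : X.Opens, W = ⊥ → Subsingleton Γ(X, W) := by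
  rintro _ rfl
  infer_instance

/-- A scheme whose ring of global functions has no nontrivial idempotents is preconnected. -/
lemma preconnectedSpace_of_noIdem (X : Scheme.{u}) (h : NoIdem Γ(X, ⊤)) : PreconnectedSpace X := by
  rw [preconnectedSpace_iff_clopen]
  intro s hs
  by_contra hcon
  push_neg at hcon
  obtain ⟨hne, hnu⟩ := hcon
  let U : Bool → X.Opens := fun b => if b = true then ⟨s, hs.2⟩ else ⟨sᶜ, hs.1.isOpen_compl⟩
  have hUt : U true = ⟨s, hs.2⟩ := rfl
  have hUf : U false = ⟨sᶜ, hs.1.isOpen_compl⟩ := rfl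
  let sf : ∀ b : Bool, Γ(X, U b) := fun b => if b = true then 1 else 0
  have hdisj : ∀ i j : Bool, i ≠ j → U i ⊓ U j = ⊥ := by
    intro i j hij
    ext x
    simp only [Opens.coe_inf, Set.mem_inter_iff, SetLike.mem_coe, Opens.coe_bot,
      Set.mem_empty_iff_false, iff_false, not_and]
    cases i <;> cases j <;> simp_all [U]
  have ic : TopCat.Presheaf.IsCompatible X.presheaf U sf := by
    intro i j
    by_cases hij : i = j
    · subst hij
      rfl
    · haveI := subsingleton_Γ_of_eq_bot X _ (hdisj i j hij)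
      exact Subsingleton.elim _ _
  have hcover : (⊤ : X.Opens) ≤ iSup U := by
    intro x _
    rw [Opens.mem_iSup]
    by_cases hx : x ∈ s
    · exact ⟨true, hx⟩
    · exact ⟨false, hx⟩
  obtain ⟨e, he, huniq⟩ : ∃ e : Γ(X, ⊤),
      (∀ i, (X.presheaf.map (homOfLE le_top : U i ⟶ ⊤).op).hom e = sf i) ∧
      ∀ y : Γ(X, ⊤), (∀ i, (X.presheaf.map (homOfLE le_top : U i ⟶ ⊤).op).hom y = sf i) → y = e :=
    X.sheaf.existsUnique_gluing' U ⊤ (fun i => homOfLE le_top) hcover sf ic
  have hee : e * e = e := by
    apply huniq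
    intro i
    rw [map_mul, he i]
    cases i <;> simp [sf]
  rcases h e hee with h0 | h1
  · -- then `1 = 0` on `U true = s`, so `s = ∅`
    have h2 := he true
    rw [h0, map_zero] at h2
    obtain ⟨x, hx⟩ := hne
    haveI : Nonempty ↥(U true) := ⟨⟨x, hx⟩⟩
    haveI : Nontrivial Γ(X, U true) := inferInstance
    exact zero_ne_one (h2.trans (by simp [sf]))
  · apply hnu
    have h2 := he false
    rw [h1, map_one] at h2
    by_contra hs'
    obtain ⟨x, hx⟩ := (Set.ne_univ_iff_exists_notMem s).mp hs'
    haveI : Nonempty ↥(U false) := ⟨⟨x, hx⟩⟩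
    haveI : Nontrivial Γ(X, U false) := inferInstance
    exact one_ne_zero (h2.trans (by simp [sf]))

open TensorProduct in
/-- If `X` is geometrically connected over `k` then `k` is separably closed in `Γ(X, O_X)`. -/
theorem sepClosedIn_of_geometricallyConnected {k : Type u} [Field k] {X : Scheme.{u}}
    (f : X ⟶ Spec (CommRingCat.of k)) [GeometricallyConnected f] : SepClosedIn f := by
  haveI : Subsingleton ↥(Spec (CommRingCat.of k)) :=
    inferInstanceAs (Subsingleton (PrimeSpectrum k))
  haveI : Nonempty ↥(Spec (CommRingCat.of k)) := ⟨(⊥ : PrimeSpectrum k)⟩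
  haveI : ConnectedSpace X := GeometricallyConnected.connectedSpace_of_subsingleton (f := f)
  intro a q hq hqa
  letI : Algebra k Γ(X, ⊤) := (gammaHom f).toAlgebra
  haveI : Nonempty ↥(⊤ : X.Opens) := by
    obtain ⟨x⟩ : Nonempty X := inferInstance
    exact ⟨⟨x, trivial⟩⟩
  haveI : Nontrivial Γ(X, ⊤) := inferInstance
  have ha : IsSepRoot k a := ⟨q, hq, by rw [aeval_def]; exact hqa⟩
  obtain ⟨M, _, _, _, _, ψ, x, rfl⟩ := ha.exists_field (noIdem_Γ X)
  suffices hsurj : ∀ α : M, α ∈ Set.range (algebraMap k M) by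
    obtain ⟨c, rfl⟩ := hsurj x
    exact ⟨c, (ψ.commutes c).symm⟩
  intro α
  refine Groth.Agent.S2150.result.mp ?_ α (Algebra.IsSeparable.isSeparable k α)
  intro k' _ _
  let v : X ⟶ Spec (CommRingCat.of M) := homOfRingHom (ψ : M →+* Γ(X, ⊤))
  let g : Spec (CommRingCat.of M) ⟶ Spec (CommRingCat.of k) :=
    Spec.map (CommRingCat.ofHom (algebraMap k M))
  have hv : v ≫ g = f := by
    conv_rhs => rw [← homOfRingHom_gammaHom f]
    change homOfRingHom _ ≫ Spec.map _ = _
    unfold homOfRingHom
    rw [Category.assoc, ← Spec.map_comp, ← CommRingCat.ofHom_comp]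
    congr 3
    ext c
    exact ψ.commutes c
  haveI : ConnectedSpace ↥(pullback (v ≫ g) (sK k k')) := by
    rw [hv]
    exact pullback_of_geometrically
      (GeometricallyConnected.geometrically_connectedSpace (f := f)) k' _
  have hpb := isPullback_mapOf (K := k') v g
  haveI : Subsingleton ↥(Spec (CommRingCat.of M)) :=
    inferInstanceAs (Subsingleton (PrimeSpectrum M))
  haveI : Surjective v := ⟨fun y => by
    obtain ⟨x0⟩ : Nonempty X := inferInstance
    exact ⟨x0, Subsingleton.elim _ _⟩⟩
  have hsurj : Surjective (mapOf (K := k') v g) :=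
    MorphismProperty.of_isPullback (P := @Surjective) hpb.flip inferInstance
  haveI hconn : ConnectedSpace ↥(pullback g (sK k k')) :=
    hsurj.surj.connectedSpace (mapOf (K := k') v g).continuous
  haveI hconn' : ConnectedSpace ↥(pullback (Spec.map (CommRingCat.ofHom (algebraMap k M)))
      (Spec.map (CommRingCat.ofHom (algebraMap k k')))) := hconn
  haveI h1 : ConnectedSpace ↥(Spec (CommRingCat.of (M ⊗[k] k'))) :=
    (pullbackSpecIso k M k').hom.homeomorph.surjective.connectedSpace
      (pullbackSpecIso k M k').hom.homeomorph.continuous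
  haveI h2 : ConnectedSpace (PrimeSpectrum (M ⊗[k] k')) := h1
  haveI h3 : ConnectedSpace (PrimeSpectrum (k' ⊗[k] M)) :=
    (PrimeSpectrum.homeomorphOfRingEquiv
      (Algebra.TensorProduct.comm k M k').toRingEquiv).surjective.connectedSpace
      (PrimeSpectrum.homeomorphOfRingEquiv
        (Algebra.TensorProduct.comm k M k').toRingEquiv).continuous
  haveI : IsArtinianRing (k' ⊗[k] M) := IsArtinianRing.of_finite k' _
  haveI : Subsingleton (PrimeSpectrum (k' ⊗[k] M)) := PreconnectedSpace.trivial_of_discrete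
  exact { toPreirreducibleSpace := inferInstance, toNonempty := inferInstance }

end Groth.Agent.Lib.Helper18.ConnComp
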