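/-
Helper18: auxiliary lemmas for the scheme of connected components (π₀) of a locally finite type
scheme over a field.
-/
import Mathlib
import Groth.Agent.Lib.Helper18.ConnComp.ProperLocal

set_option autoImplicit false

namespace Groth.Agent.Lib.Helper18.ConnComp

open AlgebraicGeometry CategoryTheory CategoryTheory.Limits TopologicalSpace Polynomial Opposite
open Groth.Agent.Lib.Helper18.GalFibre

universe u v

/-- Glue morphisms defined on pairwise disjoint opens covering `Z`. -/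
lemma exists_glue_of_disjoint {Z Y : Scheme.{u}} {ι : Type v} (U : ι → Z.Opens)
    (hU : IsOpenCover U)
    (hdisj : ∀ i j, i ≠ j → ((U i : Set Z) ∩ (U j : Set Z)) = ∅)
    (g : ∀ i, ((U i : Z.Opens) : Scheme.{u}) ⟶ Y) :
    ∃ h : Z ⟶ Y, ∀ i, (U i).ι ≫ h = g i := by
  classical
  let 𝒰 := Z.openCoverOfIsOpenCover U hU
  have hcompat : ∀ x y : ι, pullback.fst (𝒰.f x) (𝒰.f y) ≫ g x =
      pullback.snd (𝒰.f x) (𝒰.f y) ≫ g y := by
    intro x y
    by_cases hxy : x = y
    · subst hxy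
      have : pullback.fst (𝒰.f x) (𝒰.f x) = pullback.snd (𝒰.f x) (𝒰.f x) := by
        have h1 : pullback.fst (𝒰.f x) (𝒰.f x) ≫ (U x).ι =
            pullback.snd (𝒰.f x) (𝒰.f x) ≫ (U x).ι := pullback.condition
        exact (cancel_mono (U x).ι).mp h1
      rw [this]
    · haveI : IsEmpty ↥(pullback (𝒰.f x) (𝒰.f y)) := by
        constructor
        intro z
        have hmem : (pullback.fst (𝒰.f x) (𝒰.f y) ≫ 𝒰.f x).base z ∈
            (U x : Set Z) ∩ (U y : Set Z) := by
          refine ⟨?_, ?_⟩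
          · rw [Scheme.Hom.comp_apply]
            exact ((pullback.fst (𝒰.f x) (𝒰.f y)).base z).2
          · rw [pullback.condition, Scheme.Hom.comp_apply]
            exact ((pullback.snd (𝒰.f x) (𝒰.f y)).base z).2
        rw [hdisj x y hxy] at hmem
        exact hmem
      exact (isInitialOfIsEmpty (X := pullback (𝒰.f x) (𝒰.f y))).hom_ext _ _
  exact ⟨𝒰.glueMorphisms g hcompat, fun i => 𝒰.ι_glueMorphisms g hcompat i⟩

/-- Any morphism from a nonempty scheme to the spectrum of a field is an epimorphism. -/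
lemma epi_of_field_target {Z : Scheme.{u}} [Nonempty Z] {L : Type u} [Field L]
    (w : Z ⟶ Spec (CommRingCat.of L)) : Epi w := by
  obtain ⟨x⟩ : Nonempty Z := inferInstance
  obtain ⟨_, ⟨W₀, hW, rfl⟩, hxW, -⟩ :=
    Z.isBasis_affineOpens.exists_subset_of_mem_open (Set.mem_univ x) isOpen_univ
  let W : Z.Opens := W₀
  haveI : IsAffine W.toScheme := hW
  haveI : Subsingleton ↥(Spec (CommRingCat.of L)) :=
    inferInstanceAs (Subsingleton (PrimeSpectrum L))
  haveI : Surjective (W.ι ≫ w) := ⟨fun y => ⟨⟨x, hxW⟩, Subsingleton.elim _ _⟩⟩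
  haveI : Flat (W.ι ≫ w) := inferInstance
  haveI : QuasiCompact (W.ι ≫ w) := inferInstance
  haveI : Epi (W.ι ≫ w) := inferInstance
  exact epi_of_epi W.ι w

/-- If a nonempty scheme locally of finite type over `k` maps to `Spec L` over `k`, then `L/k` is
finite. -/
lemma finiteDimensional_of_factor {k : Type u} [Field k] {Y : Scheme.{u}} [Nonempty Y]
    (fY : Y ⟶ Spec (CommRingCat.of k)) [LocallyOfFiniteType fY] {L : Type u} [Field L]
    [Algebra k L] (w : Y ⟶ Spec (CommRingCat.of L))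
    (hw : w ≫ Spec.map (CommRingCat.ofHom (algebraMap k L)) = fY) :
    FiniteDimensional k L := by
  obtain ⟨x⟩ : Nonempty Y := inferInstance
  obtain ⟨_, ⟨W₀, hW, rfl⟩, hxW, -⟩ :=
    Y.isBasis_affineOpens.exists_subset_of_mem_open (Set.mem_univ x) isOpen_univ
  let W : Y.Opens := W₀
  haveI : Nonempty ↥W := ⟨⟨x, hxW⟩⟩
  haveI : Nontrivial Γ(Y, W) := inferInstance
  let ρ : Γ(Y, ⊤) →+* Γ(Y, W) := (Y.presheaf.map (homOfLE le_top : W ⟶ ⊤).op).hom
  have hft : ((Scheme.ΓSpecIso (CommRingCat.of k)).inv ≫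
      fY.appLE ⊤ W (by simp)).hom.FiniteType := by
    rw [CommRingCat.hom_comp]
    exact RingHom.FiniteType.comp (fY.finiteType_appLE (isAffineOpen_top _) hW _)
      (RingHom.FiniteType.of_surjective _
        (Scheme.ΓSpecIso (CommRingCat.of k)).symm.commRingCatIsoToRingEquiv.surjective)
  have hcomp : (ρ.comp (gammaHom w)).comp (algebraMap k L) =
      ((Scheme.ΓSpecIso (CommRingCat.of k)).inv ≫ fY.appLE ⊤ W (by simp)).hom := by
    rw [RingHom.comp_assoc, ← gammaHom_comp, hw]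
    rfl
  have := RingHom.finite_of_algHom_finiteType_of_isJacobsonRing (algebraMap k L)
    (ρ.comp (gammaHom w)) (hcomp ▸ hft)
  exact RingHom.finite_algebraMap.mp this

section EtaleField

variable {k : Type u} [Field k]

/-- The structure ring map `k → Γ(Y, V)`. -/
noncomputable def gammaHomOn {Y : Scheme.{u}} (gY : Y ⟶ Spec (CommRingCat.of k)) (V : Y.Opens) :
    k →+* Γ(Y, V) :=
  ((Scheme.ΓSpecIso (CommRingCat.of k)).inv ≫ gY.appLE ⊤ V (by simp)).hom

lemma etale_gammaHomOn {Y : Scheme.{u}} (gY : Y ⟶ Spec (CommRingCat.of k)) [Etale gY]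
    {V : Y.Opens} (hV : IsAffineOpen V) : (gammaHomOn gY V).Etale := by
  unfold gammaHomOn
  apply RingHom.Etale.respectsIso.2
    (e := (Scheme.ΓSpecIso (CommRingCat.of k)).symm.commRingCatIsoToRingEquiv)
  exact gY.etale_appLE (isAffineOpen_top _) hV _

/-- An étale scheme over a field has the discrete topology. -/
theorem discreteTopology_of_etale_field {Y : Scheme.{u}} (gY : Y ⟶ Spec (CommRingCat.of k))
    [Etale gY] : DiscreteTopology Y := by
  rw [discreteTopology_iff_isOpen_singleton]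
  intro y
  obtain ⟨_, ⟨V₀, hV, rfl⟩, hyV, -⟩ :=
    Y.isBasis_affineOpens.exists_subset_of_mem_open (Set.mem_univ y) isOpen_univ
  let V : Y.Opens := V₀
  have het := etale_gammaHomOn gY (V := V) hV
  letI : Algebra k Γ(Y, V) := (gammaHomOn gY V).toAlgebra
  haveI : Algebra.Etale k Γ(Y, V) := het
  haveI : Module.Finite k Γ(Y, V) := Algebra.FormallyUnramified.finite_of_free k _
  haveI : IsArtinianRing Γ(Y, V) := IsArtinianRing.of_finite k _
  haveI : DiscreteTopology ↥(Spec Γ(Y, V)) :=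
    inferInstanceAs (DiscreteTopology (PrimeSpectrum Γ(Y, V)))
  haveI : DiscreteTopology ↥V :=
    (IsAffineOpen.isoSpec hV).hom.homeomorph.symm.discreteTopology
  have h1 : IsOpen ({⟨y, hyV⟩} : Set ↥V) := isOpen_discrete _
  have h2 := V.isOpen.isOpenMap_subtype_val _ h1
  simpa using h2

end EtaleField

section EtalePoint

variable {k : Type u} [Field k]

lemma gammaHom_eq_gammaHomOn_top {T : Scheme.{u}} (gT : T ⟶ Spec (CommRingCat.of k)) :
    gammaHom gT = gammaHomOn gT ⊤ := by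
  unfold gammaHom gammaHomOn
  rw [Scheme.Hom.appTop, Scheme.Hom.app_eq_appLE]
  rfl

/-- On a one-point scheme étale over `k`, every global function is a root of a separable
polynomial over `k`. -/
theorem isSepRoot_of_etale_point {T : Scheme.{u}} [Subsingleton T] [Nonempty T]
    (gT : T ⟶ Spec (CommRingCat.of k)) [Etale gT] (a : Γ(T, ⊤)) :
    letI : Algebra k Γ(T, ⊤) := (gammaHom gT).toAlgebra
    IsSepRoot k a := by
  letI : Algebra k Γ(T, ⊤) := (gammaHom gT).toAlgebra
  have het : (gammaHom gT).Etale := by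
    rw [gammaHom_eq_gammaHomOn_top]
    exact etale_gammaHomOn gT (isAffineOpen_top T)
  haveI : Algebra.Etale k Γ(T, ⊤) := het
  haveI : Module.Finite k Γ(T, ⊤) := Algebra.FormallyUnramified.finite_of_free k _
  haveI : IsReduced Γ(T, ⊤) := Algebra.FormallyUnramified.isReduced_of_field k _
  haveI : Nonempty ↥(⊤ : T.Opens) := by
    obtain ⟨x⟩ : Nonempty T := inferInstance
    exact ⟨⟨x, trivial⟩⟩
  haveI : Nontrivial Γ(T, ⊤) := inferInstance
  haveI : PreconnectedSpace T := inferInstance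
  have hR : NoIdem Γ(T, ⊤) := noIdem_Γ T
  have hfield : IsField Γ(T, ⊤) := by
    refine ⟨⟨0, 1, zero_ne_one⟩, mul_comm, ?_⟩
    intro b hb
    rcases isUnit_or_isNilpotent_of_isIntegral (k := k) hR
      (Algebra.IsIntegral.isIntegral (R := k) b) with hu | hn
    · obtain ⟨c, hc⟩ := hu.exists_right_inv
      exact ⟨c, hc⟩
    · exact absurd hn.eq_zero hb
  letI : Field Γ(T, ⊤) := hfield.toField
  haveI : Algebra.IsSeparable k Γ(T, ⊤) := Algebra.FormallyUnramified.isSeparable k _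
  exact ⟨minpoly k a, Algebra.IsSeparable.isSeparable k a, minpoly.aeval k a⟩

end EtalePoint

section Factor

variable {k : Type u} [Field k]

lemma gammaHom_comp_left {Z T : Scheme.{u}} (j : Z ⟶ T) (gT : T ⟶ Spec (CommRingCat.of k)) :
    gammaHom (j ≫ gT) = j.appTop.hom.comp (gammaHom gT) := by
  unfold gammaHom
  rw [Scheme.Hom.comp_appTop, ← Category.assoc, CommRingCat.hom_comp]

/-- **Factorisation through `Spec L`.** If `Z` is connected, `w : Z ⟶ Spec L` has `L` separably
closed in `Γ(Z)`, then any `k`-morphism from `Z` to an étale `k`-scheme factors through `w`. -/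
theorem exists_factor_of_etale {Z : Scheme.{u}} [ConnectedSpace Z] {L : Type u} [Field L]
    [Algebra k L] (w : Z ⟶ Spec (CommRingCat.of L)) (hsc : SepClosedIn w)
    {Y : Scheme.{u}} (gY : Y ⟶ Spec (CommRingCat.of k)) [Etale gY] (hZ : Z ⟶ Y)
    (hcomp : hZ ≫ gY = w ≫ Spec.map (CommRingCat.ofHom (algebraMap k L))) :
    ∃ t : Spec (CommRingCat.of L) ⟶ Y, w ≫ t = hZ := by
  haveI := discreteTopology_of_etale_field gY
  obtain ⟨z₀⟩ : Nonempty Z := inferInstance
  let y := hZ.base z₀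
  let Vy : Y.Opens := ⟨{y}, isOpen_discrete _⟩
  have hall : ∀ z, hZ.base z ∈ Vy := by
    have hcl : IsClopen (hZ.base ⁻¹' {y}) :=
      (isClopen_discrete ({y} : Set Y)).preimage hZ.continuous
    have := hcl.eq_univ ⟨z₀, rfl⟩
    intro z
    have hz : z ∈ hZ.base ⁻¹' {y} := by rw [this]; trivial
    exact hz
  haveI hsub : Subsingleton ↥Vy := ⟨fun a b => Subtype.ext (a.2.trans b.2.symm)⟩
  haveI hnon : Nonempty ↥Vy := ⟨⟨y, rfl⟩⟩
  haveI : Subsingleton ↥(Vy.toScheme) := hsub
  haveI : Nonempty ↥(Vy.toScheme) := hnon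
  have hrange : Set.range hZ.base ⊆ Set.range Vy.ι.base := by
    rintro _ ⟨z, rfl⟩
    rw [Scheme.Opens.range_ι]
    exact hall z
  let hZ' : Z ⟶ Vy.toScheme := IsOpenImmersion.lift Vy.ι hZ hrange
  have hfac : hZ' ≫ Vy.ι = hZ := IsOpenImmersion.lift_fac _ _ _
  let gT : Vy.toScheme ⟶ Spec (CommRingCat.of k) := Vy.ι ≫ gY
  haveI : Etale gT := inferInstance
  let φ : Γ(Vy.toScheme, ⊤) →+* Γ(Z, ⊤) := hZ'.appTop.hom
  have hcompat : φ.comp (gammaHom gT) = (gammaHom w).comp (algebraMap k L) := by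
    rw [← gammaHom_comp, ← hcomp, ← hfac, Category.assoc]
    exact (gammaHom_comp_left hZ' gT).symm
  have hmem : ∀ a : Γ(Vy.toScheme, ⊤), φ a ∈ (gammaHom w).range := by
    intro a
    letI : Algebra k Γ(Vy.toScheme, ⊤) := (gammaHom gT).toAlgebra
    obtain ⟨p, hp, hpa⟩ := isSepRoot_of_etale_point gT a
    have h0 : (p.map (algebraMap k L)).eval₂ (gammaHom w) (φ a) = 0 := by
      rw [Polynomial.eval₂_map, ← hcompat, ← Polynomial.hom_eval₂]
      rw [Polynomial.aeval_def] at hpa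
      have : p.eval₂ (gammaHom gT) a = 0 := hpa
      rw [this, map_zero]
    obtain ⟨c, hc⟩ := hsc (φ a) _ hp.map h0
    exact ⟨c, hc⟩
  haveI : Nonempty ↥(⊤ : Z.Opens) := ⟨⟨z₀, trivial⟩⟩
  haveI : Nontrivial Γ(Z, ⊤) := inferInstance
  let e : L ≃+* (gammaHom w).range :=
    RingEquiv.ofBijective (gammaHom w).rangeRestrict
      ⟨fun a b hab => (gammaHom w).injective (congrArg Subtype.val hab),
        (gammaHom w).rangeRestrict_surjective⟩
  let ψr : Γ(Vy.toScheme, ⊤) →+* (gammaHom w).range := φ.codRestrict _ hmem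
  let φ' : Γ(Vy.toScheme, ⊤) →+* L := e.symm.toRingHom.comp ψr
  have hφ' : (gammaHom w).comp φ' = φ := by
    ext a
    have h1 : (e (e.symm (ψr a))) = ψr a := e.apply_symm_apply _
    have h2 : ((e (e.symm (ψr a))) : Γ(Z, ⊤)) = gammaHom w (e.symm (ψr a)) := rfl
    change gammaHom w (e.symm (ψr a)) = φ a
    rw [← h2, h1]
    rfl
  refine ⟨Spec.map (CommRingCat.ofHom φ') ≫ Vy.toScheme.isoSpec.inv ≫ Vy.ι, ?_⟩
  have hw : w = Z.toSpecΓ ≫ Spec.map (CommRingCat.ofHom (gammaHom w)) :=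
    (homOfRingHom_gammaHom w).symm
  have h3 : w ≫ Spec.map (CommRingCat.ofHom φ') = hZ' ≫ Vy.toScheme.isoSpec.hom := by
    conv_lhs => rw [hw]
    rw [Category.assoc, ← Spec.map_comp, ← CommRingCat.ofHom_comp, hφ']
    change Z.toSpecΓ ≫ Spec.map hZ'.appTop = _
    rw [← Scheme.toSpecΓ_naturality]
    rfl
  rw [← Category.assoc, h3, Category.assoc, Iso.hom_inv_id_assoc, hfac]

end Factor

end Groth.Agent.Lib.Helper18.ConnComp
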