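/-
Helper18: the étale `k`-scheme of connected components of a locally finite type `k`-scheme, with
its universal property.
-/
import Mathlib
import Groth.Agent.Lib.Helper18.ConnComp.PiZeroAux
import Groth.Agent.Lib.Helper7.LocConn

set_option autoImplicit false

namespace Groth.Agent.Lib.Helper18.ConnComp

open AlgebraicGeometry CategoryTheory CategoryTheory.Limits TopologicalSpace Polynomial Opposite
open Groth.Agent.Lib.Helper18.GalFibre

universe u

variable (k : Type u) [Field k]

/-- Data attached to a connected `k`-scheme of locally finite type: the finite separable field of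
"separable constants" and the factorisation through it. -/
structure CompData (Z : Scheme.{u}) (fZ : Z ⟶ Spec (CommRingCat.of k)) where
  L : Type u
  [field : Field L]
  [alg : Algebra k L]
  [fin : FiniteDimensional k L]
  [sep : Algebra.IsSeparable k L]
  w : Z ⟶ Spec (CommRingCat.of L)
  hw : w ≫ Spec.map (CommRingCat.ofHom (algebraMap k L)) = fZ
  hsc : SepClosedIn w

attribute [instance] CompData.field CompData.alg CompData.fin CompData.sep

lemma nonempty_compData (Z : Scheme.{u}) [ConnectedSpace Z] (fZ : Z ⟶ Spec (CommRingCat.of k))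
    [LocallyOfFiniteType fZ] : Nonempty (CompData k Z fZ) := by
  obtain ⟨L, _, _, _, w, hw, hsc⟩ := exists_sepClosed_factor fZ
  haveI : FiniteDimensional k L := finiteDimensional_of_factor fZ w hw
  exact ⟨{ L := L, w := w, hw := hw, hsc := hsc }⟩

variable {k}

/-- **The scheme of connected components.** -/
theorem exists_pi0 (X : Scheme.{u}) (f : X ⟶ Spec (CommRingCat.of k)) [LocallyOfFiniteType f] :
    ∃ (P : Scheme.{u}) (g : P ⟶ Spec (CommRingCat.of k)) (q : X ⟶ P), Etale g ∧ q ≫ g = f ∧
      (∀ (Y : Scheme.{u}) (gY : Y ⟶ Spec (CommRingCat.of k)) (h : X ⟶ Y), Etale gY → h ≫ gY = f →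
        ∃! t : P ⟶ Y, t ≫ gY = g ∧ q ≫ t = h) ∧
      Flat q ∧ Surjective q ∧
      ∀ x : ↥X, (fun x' : ↥X => q.base x') ⁻¹' {q.base x} = connectedComponent x := by
  classical
  haveI : IsLocallyNoetherian X := LocallyOfFiniteType.isLocallyNoetherian f
  haveI : LocallyConnectedSpace X := Groth.Agent.Lib.Helper7.LocConn.locallyConnectedSpace
  have hpre : ∀ x : X, (ConnectedComponents.mk ⁻¹' {ConnectedComponents.mk x} : Set X) =
      connectedComponent x := fun x => connectedComponents_preimage_singleton
  have hUopen : ∀ c : _root_.ConnectedComponents X, IsOpen (ConnectedComponents.mk ⁻¹' {c} : Set X) := by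
    intro c
    obtain ⟨x, rfl⟩ := ConnectedComponents.surjective_coe c
    rw [hpre]
    exact isOpen_connectedComponent
  let U : _root_.ConnectedComponents X → X.Opens := fun c => ⟨ConnectedComponents.mk ⁻¹' {c}, hUopen c⟩
  have hUconn : ∀ c, ConnectedSpace ↥((U c).toScheme) := by
    intro c
    obtain ⟨x, rfl⟩ := ConnectedComponents.surjective_coe c
    have : _root_.IsConnected (ConnectedComponents.mk ⁻¹' {ConnectedComponents.mk x} : Set X) := by
      rw [hpre]; exact isConnected_connectedComponent
    exact isConnected_iff_connectedSpace.mp this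
  have hD : ∀ c, Nonempty (CompData k (U c).toScheme ((U c).ι ≫ f)) := fun c => by
    haveI := hUconn c
    exact nonempty_compData k _ _
  let D : ∀ c, CompData k (U c).toScheme ((U c).ι ≫ f) := fun c => (hD c).some
  let P : Scheme.{u} := ∐ fun c => Spec (CommRingCat.of (D c).L)
  let g : P ⟶ Spec (CommRingCat.of k) :=
    Sigma.desc (fun c => Spec.map (CommRingCat.ofHom (algebraMap k (D c).L)))
  have hU : IsOpenCover U := by
    apply IsOpenCover.mk
    rw [eq_top_iff]
    intro x _
    rw [Opens.mem_iSup]
    exact ⟨ConnectedComponents.mk x, rfl⟩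
  have hdisj : ∀ c c', c ≠ c' → ((U c : Set X) ∩ (U c' : Set X)) = ∅ := by
    intro c c' hcc
    ext x
    simp only [Set.mem_inter_iff, Set.mem_empty_iff_false, iff_false, not_and]
    intro (h1 : ConnectedComponents.mk x = c) (h2 : ConnectedComponents.mk x = c')
    exact hcc (h1.symm.trans h2)
  obtain ⟨q, hq⟩ := exists_glue_of_disjoint U hU hdisj
    (fun c => (D c).w ≫ Sigma.ι (fun c => Spec (CommRingCat.of (D c).L)) c)
  have hsubs : ∀ c, Subsingleton ↥(Spec (CommRingCat.of (D c).L)) := fun c =>
    inferInstanceAs (Subsingleton (PrimeSpectrum (D c).L))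
  -- point formula
  have hpt : ∀ c (z : ↥(U c)), q.base z.1 =
      (Sigma.ι (fun c => Spec (CommRingCat.of (D c).L)) c).base ((D c).w.base z) := by
    intro c z
    have := congrArg (fun m => m.base z) (hq c)
    simpa [Scheme.Hom.comp_apply] using this
  have hqg : q ≫ g = f := by
    apply (X.openCoverOfIsOpenCover U hU).hom_ext
    intro (c : _root_.ConnectedComponents X)
    change (U c).ι ≫ q ≫ g = (U c).ι ≫ f
    rw [← Category.assoc, hq c, Category.assoc, Sigma.ι_desc, (D c).hw]
  refine ⟨P, g, q, ?_, hqg, ?_, ?_, ?_, ?_⟩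
  · -- étale
    rw [IsZariskiLocalAtSource.iff_of_openCover (P := @Etale)
      (sigmaOpenCover (fun c => Spec (CommRingCat.of (D c).L)))]
    intro (c : _root_.ConnectedComponents X)
    change Etale (Sigma.ι (fun c => Spec (CommRingCat.of (D c).L)) c ≫ g)
    rw [Sigma.ι_desc]
    exact etale_sK
  · -- universal property
    intro Y gY h hEt hcomp
    haveI := hEt
    have hex : ∀ c, ∃ t : Spec (CommRingCat.of (D c).L) ⟶ Y, (D c).w ≫ t = (U c).ι ≫ h := by
      intro c
      haveI := hUconn c
      apply exists_factor_of_etale (D c).w (D c).hsc gY ((U c).ι ≫ h)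
      rw [Category.assoc, hcomp, (D c).hw]
    choose t ht using hex
    have hepi : ∀ c, Epi (D c).w := fun c => by
      haveI := hUconn c
      exact epi_of_field_target _
    refine ⟨Sigma.desc t, ⟨?_, ?_⟩, ?_⟩
    · apply Sigma.hom_ext
      intro c
      rw [← Category.assoc, Sigma.ι_desc, Sigma.ι_desc]
      haveI := hepi c
      rw [← cancel_epi (D c).w, ← Category.assoc, ht c, Category.assoc, hcomp, (D c).hw]
    · apply (X.openCoverOfIsOpenCover U hU).hom_ext
      intro (c : _root_.ConnectedComponents X)
      change (U c).ι ≫ q ≫ Sigma.desc t = (U c).ι ≫ h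
      rw [← Category.assoc, hq c, Category.assoc, Sigma.ι_desc, ht c]
    · rintro t' ⟨-, ht'⟩
      apply Sigma.hom_ext
      intro c
      rw [Sigma.ι_desc]
      haveI := hepi c
      rw [← cancel_epi (D c).w, ht c, ← ht', ← Category.assoc, ← Category.assoc, hq c,
        Category.assoc]
  · -- flat
    rw [IsZariskiLocalAtSource.iff_of_openCover (P := @Flat) (X.openCoverOfIsOpenCover U hU)]
    intro (c : _root_.ConnectedComponents X)
    change Flat ((U c).ι ≫ q)
    rw [hq c]
    haveI := hsubs c
    infer_instance
  · -- surjective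
    constructor
    intro p
    obtain ⟨⟨c, s⟩, rfl⟩ := (sigmaMk (fun c => Spec (CommRingCat.of (D c).L))).surjective p
    rw [sigmaMk_mk]
    haveI := hUconn c
    obtain ⟨z⟩ : Nonempty ↥((U c).toScheme) := inferInstance
    refine ⟨z.1, ?_⟩
    rw [hpt c z]
    congr 1
    haveI := hsubs c
    exact Subsingleton.elim _ _
  · -- fibres
    intro x
    ext x'
    simp only [Set.mem_preimage, Set.mem_singleton_iff]
    rw [← ConnectedComponents.coe_eq_coe']
    constructor
    · intro hqq
      rw [hpt (ConnectedComponents.mk x') ⟨x', rfl⟩, hpt (ConnectedComponents.mk x) ⟨x, rfl⟩,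
        sigmaι_eq_iff] at hqq
      exact congrArg Sigma.fst hqq
    · intro hc
      rw [hpt (ConnectedComponents.mk x) ⟨x', hc⟩, hpt (ConnectedComponents.mk x) ⟨x, rfl⟩]
      congr 1
      haveI := hsubs (ConnectedComponents.mk x)
      exact Subsingleton.elim _ _

end Groth.Agent.Lib.Helper18.ConnComp
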